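import Groth.Agent.Depth.FlatLocal
import Groth.Agent.SerreLib.Normal
import Groth.Agent.FibDepthLib.BaseChange
import Groth.Agent.GeomRk.AnyExt
import Groth.Agent.FlatDepth.Fibres
/-!
Regularity in codimension one and depth two for a flat local extension of a normal local domain
with reduced closed fibre and regular generic fibre.
-/

universe u

open IsLocalRing LocCoh RingTheory.Sequence Pointwise

namespace Groth.Agent.CurvNormLib

/-- A Noetherian normal local domain of dimension one is a discrete valuation ring. -/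
theorem isDVR_of_dim_le_one (A : Type u) [CommRing A] [IsDomain A] [IsLocalRing A] [IsNoetherianRing A]
    [IsIntegrallyClosed A] (hA : ¬ IsField A) (h1 : ringKrullDim A ≤ 1) : IsDiscreteValuationRing A := by
  have hk : Ring.KrullDimLE 1 A := Ring.krullDimLE_iff.mpr h1
  haveI : Ring.DimensionLEOne A :=
    ⟨fun {p} hne hp => Ring.krullDimLE_one_iff_of_noZeroDivisors.mp hk p hne hp⟩
  haveI : IsDedekindDomain A := { }
  exact ((IsDiscreteValuationRing.TFAE A hA).out 0 2 rfl rfl).2 inferInstance

/-- A reduced Noetherian local ring which is not a field has a nonzerodivisor in its maximal ideal. -/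
theorem exists_nonZeroDivisor_mem_maximalIdeal (F : Type u) [CommRing F] [IsLocalRing F] [IsNoetherianRing F]
    [IsReduced F] (hF : ¬ IsField F) : ∃ b ∈ maximalIdeal F, b ∈ nonZeroDivisors F := by
  have hfin := minimalPrimes.finite_of_isNoetherianRing F
  by_contra! hc
  have hsub : (maximalIdeal F : Set F) ⊆ ⋃ i ∈ (↑hfin.toFinset : Set (Ideal F)), (i : Set F) := fun x hx => by
    by_contra hno
    exact hc x hx (SerreLib.isUnit_or_mem_minimalPrimes_of_notMem fun q hq hxq =>
      hno (Set.mem_biUnion (hfin.mem_toFinset.2 hq) hxq))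
  obtain ⟨i, hi, hle⟩ := (Ideal.subset_union_prime ⊥ ⊥
    fun i hi _ _ => (hfin.mem_toFinset.1 hi).1.1).mp hsub
  have hi' : i ∈ minimalPrimes F := hfin.mem_toFinset.1 hi
  have him : i = maximalIdeal F := le_antisymm (le_maximalIdeal hi'.1.1.ne_top) hle
  refine hF (isField_iff_maximalIdeal_eq.2 ((Submodule.eq_bot_iff _).2 fun x hx => ?_))
  refine SerreLib.eq_zero_of_forall_minimalPrimes fun q hq => ?_
  have : q = i := le_antisymm (him ▸ le_maximalIdeal hq.1.1.ne_top)
    (hi'.2 hq.1 (him ▸ le_maximalIdeal hq.1.1.ne_top))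
  exact this ▸ him ▸ hx

theorem regular_and_depth {A B : Type u} [CommRing A] [IsDomain A] [IsLocalRing A] [IsNoetherianRing A]
    [IsIntegrallyClosed A] [CommRing B] [IsLocalRing B] [IsNoetherianRing B] [Algebra A B] [Module.Flat A B]
    [IsLocalHom (algebraMap A B)] (hred : IsReduced (B ⧸ (maximalIdeal A).map (algebraMap A B)))
    (hgen : IsField A → IsRegularLocalRing B) :
    (ringKrullDim B ≤ 1 → IsRegularLocalRing B) ∧
      min 2 (ringKrullDim B) ≤ ((depth B B : ℕ∞) : WithBot ℕ∞) := by
  have reg : IsRegularLocalRing B → (ringKrullDim B ≤ 1 → IsRegularLocalRing B) ∧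
      min 2 (ringKrullDim B) ≤ ((depth B B : ℕ∞) : WithBot ℕ∞) := fun h =>
    ⟨fun _ => h, (min_le_right _ _).trans (GeomRk.depth_eq_dim_of_regular B).ge⟩
  by_cases hA : IsField A
  · exact reg (hgen hA)
  have big : 2 ≤ depth B B → 2 ≤ ringKrullDim B → (ringKrullDim B ≤ 1 → IsRegularLocalRing B) ∧
      min 2 (ringKrullDim B) ≤ ((depth B B : ℕ∞) : WithBot ℕ∞) := fun h2 hd =>
    ⟨fun h1 => absurd (hd.trans h1) (by decide),
      (min_le_left _ _).trans (WithBot.coe_le_coe.2 h2)⟩
  have hdA : 1 ≤ ringKrullDim A := by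
    by_contra hlt
    refine hA ?_
    have : Ring.KrullDimLE 0 A := Ring.krullDimLE_iff.mpr (by
      rw [← maximalIdeal_height_eq_ringKrullDim] at hlt ⊢
      have h0 : (maximalIdeal A).height < 1 := by
        by_contra h; exact hlt (WithBot.coe_le_coe.2 (not_lt.1 h))
      exact WithBot.coe_le_coe.2 (le_of_eq (Order.lt_one_iff.1 h0)))
    exact Ring.KrullDimLE.isField_of_isDomain
  by_cases hmB : (maximalIdeal A).map (algebraMap A B) = maximalIdeal B
  · rcases le_or_gt (ringKrullDim A) 1 with h1 | h1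
    · have hd1 : ringKrullDim A = 1 := le_antisymm h1 hdA
      haveI := isDVR_of_dim_le_one A hA h1
      exact reg ((Depth.isRegularLocalRing_iff_of_map_maximalIdeal A B hmB).2 inferInstance)
    · refine big ?_ ?_
      · rw [Depth.depth_eq_of_map_maximalIdeal A B hmB]
        exact SerreLib.two_le_depth_of_normal h1
      · rw [Depth.ringKrullDim_eq_of_map_maximalIdeal A B hmB]
        rw [← maximalIdeal_height_eq_ringKrullDim] at h1 ⊢
        exact WithBot.coe_le_coe.2 (Order.add_one_le_of_lt (WithBot.coe_lt_coe.1 h1))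
  set J := (maximalIdeal A).map (algebraMap A B) with hJ
  have hJle : J ≤ maximalIdeal B := ((local_hom_TFAE (algebraMap A B)).out 0 2 rfl rfl).1 inferInstance
  haveI : Nontrivial (B ⧸ J) :=
    Ideal.Quotient.nontrivial_iff.2 fun h => (maximalIdeal.isMaximal B).ne_top (top_le_iff.1 (h ▸ hJle))
  haveI : IsLocalRing (B ⧸ J) := IsLocalRing.of_surjective' _ Ideal.Quotient.mk_surjective
  have hF : ¬ IsField (B ⧸ J) := fun h => hmB ((Ideal.Quotient.maximal_of_isField J h).eq_of_le
    (maximalIdeal.isMaximal B).ne_top hJle)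
  have hdim : 2 ≤ ringKrullDim B := by
    haveI : (maximalIdeal B).LiesOver (maximalIdeal A) :=
      ⟨(((local_hom_TFAE (algebraMap A B)).out 0 4 rfl rfl).1 inferInstance).symm⟩
    rw [← maximalIdeal_height_eq_ringKrullDim,
      Ideal.height_eq_height_add_of_liesOver_of_hasGoingDown (maximalIdeal A) (maximalIdeal B), ← hJ]
    rw [← maximalIdeal_height_eq_ringKrullDim] at hdA
    have hmap : (maximalIdeal B).map (Ideal.Quotient.mk J) = maximalIdeal (B ⧸ J) :=
      IsLocalRing.map_maximalIdeal_of_surjective _ Ideal.Quotient.mk_surjective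
    have h2 : 1 ≤ (maximalIdeal (B ⧸ J)).height := by
      rw [Order.one_le_iff_pos, pos_iff_ne_zero]
      intro h0
      refine hF ?_
      haveI : Ring.KrullDimLE 0 (B ⧸ J) := Ring.krullDimLE_iff.mpr (by
        rw [← maximalIdeal_height_eq_ringKrullDim, h0]; rfl)
      haveI : IsArtinianRing (B ⧸ J) := isArtinianRing_iff_krullDimLE_zero.mpr inferInstance
      exact IsArtinianRing.isField_of_isReduced_of_isLocalRing _
    rw [hmap]
    exact WithBot.coe_le_coe.2 (show (2 : ℕ∞) ≤ _ from
      one_add_one_eq_two.symm.le.trans (add_le_add (WithBot.coe_le_coe.1 hdA) h2))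
  refine big ?_ hdim
  rcases le_or_gt (ringKrullDim A) 1 with h1 | h1
  · haveI := isDVR_of_dim_le_one A hA h1
    obtain ⟨π, hπ⟩ := IsDiscreteValuationRing.exists_irreducible A
    have hJπ : J = Ideal.span {algebraMap A B π} := by
      rw [hJ, hπ.maximalIdeal_eq, Ideal.map_span, Set.image_singleton]
    have hreg : IsSMulRegular B (algebraMap A B π) := by
      intro x y hxy
      exact Module.Flat.isSMulRegular_of_isRegular (R := A) (M := B) (r := π)
        (IsRegular.of_ne_zero hπ.ne_zero) (by simpa [Algebra.smul_def] using hxy)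
    obtain ⟨c, hc, hcnz⟩ := exists_nonZeroDivisor_mem_maximalIdeal (B ⧸ J) hF
    obtain ⟨b, rfl⟩ := Ideal.Quotient.mk_surjective c
    have hb : b ∈ maximalIdeal B := by
      rw [mem_maximalIdeal, mem_nonunits_iff]
      exact fun hu => (maximalIdeal.isMaximal _).ne_top (Ideal.eq_top_of_isUnit_mem _ hc (hu.map _))
    rw [depth, ← Nat.cast_two, Depth.le_idealDepth_iff (by
      rw [smul_eq_mul, Ideal.mul_top]; exact (maximalIdeal.isMaximal B).ne_top)]
    refine ⟨[algebraMap A B π, b], rfl, fun r hr => ?_, ?_⟩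
    · rcases List.mem_cons.1 hr with rfl | hr
      · exact hJle (hJπ ▸ Ideal.mem_span_singleton_self _)
      · rw [List.mem_singleton] at hr; exact hr ▸ hb
    · rw [isWeaklyRegular_cons_iff, isWeaklyRegular_cons_iff]
      refine ⟨hreg, ?_, IsWeaklyRegular.nil _ _⟩
      rw [isSMulRegular_iff_right_eq_zero_of_smul]
      intro x hx
      obtain ⟨x, rfl⟩ := Submodule.Quotient.mk_surjective _ x
      rw [← Submodule.Quotient.mk_smul, Submodule.Quotient.mk_eq_zero] at hx
      rw [Submodule.Quotient.mk_eq_zero]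
      have key : ∀ z : B, z ∈ algebraMap A B π • (⊤ : Submodule B B) ↔ z ∈ J := fun z => by
        rw [hJπ, Ideal.mem_span_singleton]
        constructor
        · rintro ⟨w, -, rfl⟩; exact ⟨w, rfl⟩
        · rintro ⟨w, rfl⟩; exact ⟨w, trivial, rfl⟩
      rw [key, smul_eq_mul, ← Ideal.Quotient.eq_zero_iff_mem, map_mul, mul_comm] at hx
      rw [key, ← Ideal.Quotient.eq_zero_iff_mem]
      exact mem_nonZeroDivisors_iff_right.1 hcnz _ hx
  · exact FibDepthLib.le_idealDepth_mono hJle 2 (FibDepthLib.le_idealDepth_map_of_flat 2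
      (by exact_mod_cast SerreLib.two_le_depth_of_normal h1))

end Groth.Agent.CurvNormLib
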