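import Groth.Prelude.Def_Pi1
import Groth.Agent.CurvNormLib.Alg
import Groth.Agent.CILib.RegularImmersionFibre
import Groth.Agent.ASp.GeomRedEt
/-!
Normality of the total space of a flat family with reduced fibres and smooth generic fibre
over a normal base.
-/

set_option backward.isDefEq.respectTransparency false
set_option backward.isDefEq.respectTransparency.types false

universe u

open CategoryTheory AlgebraicGeometry IsLocalRing

namespace Groth.Agent.CurvNormLib

theorem eq_genericPoint_of_isField {S : Scheme.{u}} [IsIntegral S] (s : S)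
    (h : IsField (S.presheaf.stalk s)) : s = genericPoint S := by
  have hs : genericPoint S ∈ Set.range (S.fromSpecStalk s) := by
    rw [Scheme.range_fromSpecStalk]
    exact genericPoint_specializes s
  obtain ⟨p, hp⟩ := hs
  letI := h.toField
  haveI : Subsingleton (PrimeSpectrum (S.presheaf.stalk s)) := inferInstance
  have : p = IsLocalRing.closedPoint (S.presheaf.stalk s) := Subsingleton.elim (α := PrimeSpectrum (S.presheaf.stalk s)) _ _
  rw [← hp, this, Scheme.fromSpecStalk_closedPoint]

theorem point_data {S C : Scheme.{u}} [IsIntegral S] [IsLocallyNoetherian S] [IsLocallyNoetherian C]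
    (hS : Pi1.IsNormalScheme S) (f : C ⟶ S) [Flat f] [GeometricallyReduced f]
    (hsm : Smooth (f.fiberToSpecResidueField (genericPoint ↥S))) (x : C) :
    (ringKrullDim (C.presheaf.stalk x) ≤ 1 → IsRegularLocalRing (C.presheaf.stalk x)) ∧
      min 2 (ringKrullDim (C.presheaf.stalk x)) ≤
        ((LocCoh.depth (C.presheaf.stalk x) (C.presheaf.stalk x) : ℕ∞) : WithBot ℕ∞) := by
  haveI := (hS (f x)).1
  haveI := (hS (f x)).2
  letI := (f.stalkMap x).hom.toAlgebra
  haveI : Module.Flat (S.presheaf.stalk (f x)) (C.presheaf.stalk x) := Flat.stalkMap f x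
  haveI : IsLocalHom (algebraMap (S.presheaf.stalk (f x)) (C.presheaf.stalk x)) :=
    inferInstanceAs (IsLocalHom (f.stalkMap x).hom)
  obtain ⟨e⟩ := CILib.nonempty_fiberStalk_quot_equiv f x
  haveI : _root_.IsReduced (CInt.fiberStalk f x) := inferInstance
  refine regular_and_depth (A := S.presheaf.stalk (f x)) (B := C.presheaf.stalk x)
    (isReduced_of_injective e e.injective) fun hA => ?_
  have hsm' : Smooth (f.fiberToSpecResidueField (f x)) := (eq_genericPoint_of_isField _ hA).symm ▸ hsm
  haveI : IsRegularLocalRing (CInt.fiberStalk f x) :=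
    ASp.isRegularLocalRing_stalk_of_smooth_field (k := S.residueField (f x))
      (f.fiberToSpecResidueField (f x)) _
  haveI hq := IsRegularLocalRing.of_ringEquiv e.symm
  have hbot : (maximalIdeal (S.presheaf.stalk (f x))).map (f.stalkMap x).hom = ⊥ := by
    rw [isField_iff_maximalIdeal_eq.1 hA, Ideal.map_bot]
  exact IsRegularLocalRing.of_ringEquiv ((Ideal.quotEquivOfEq hbot).trans (RingEquiv.quotientBot _))

theorem isNormal {S C : Scheme.{u}} [IsIntegral S] [IsLocallyNoetherian S]
    (hS : Pi1.IsNormalScheme S) (f : C ⟶ S) [Flat f] [LocallyOfFiniteType f] [GeometricallyReduced f]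
    (hsm : Smooth (f.fiberToSpecResidueField (genericPoint ↥S))) : Pi1.IsNormalScheme C := by
  haveI : IsLocallyNoetherian C := LocallyOfFiniteType.isLocallyNoetherian f
  intro x
  obtain ⟨U, hU, hxU, -⟩ := exists_isAffineOpen_mem_and_subset (X := C) (x := x) (U := ⊤) trivial
  haveI : IsNoetherianRing Γ(C, U) := IsLocallyNoetherian.component_noetherian ⟨U, hU⟩
  have hloc : ∀ (p : Ideal Γ(C, U)) [p.IsPrime], ∃ y : C,
      Nonempty (Localization.AtPrime p ≃+* C.presheaf.stalk y) := fun p hp => by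
    have hy : hU.fromSpec ⟨p, hp⟩ ∈ U := (hU.isoSpec.inv _).2
    letI := TopCat.Presheaf.algebra_section_stalk C.presheaf (⟨_, hy⟩ : U)
    haveI := hU.isLocalization_stalk' ⟨p, hp⟩ hy
    exact ⟨_, ⟨(IsLocalization.algEquiv p.primeCompl (Localization.AtPrime p)
      (C.presheaf.stalk (hU.fromSpec ⟨p, hp⟩))).toRingEquiv⟩⟩
  have h1 : LocCoh.HasRk 1 Γ(C, U) := fun p _ hp => by
    obtain ⟨y, ⟨e⟩⟩ := hloc p
    have hd : ringKrullDim (C.presheaf.stalk y) ≤ 1 := by
      rw [← ringKrullDim_eq_of_ringEquiv e, IsLocalization.AtPrime.ringKrullDim_eq_height p]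
      exact WithBot.coe_le_coe.2 (by exact_mod_cast hp)
    haveI := (point_data hS f hsm y).1 hd
    exact IsRegularLocalRing.of_ringEquiv e.symm
  have h2 : LocCoh.HasSk 2 Γ(C, U) Γ(C, U) := (SerreLib.hasSk_localRing_iff 2).2 fun p _ => by
    obtain ⟨y, ⟨e⟩⟩ := hloc p
    rw [Nat.cast_ofNat, ringKrullDim_eq_of_ringEquiv e,
      FlatDepth.depth_eq_of_ringEquiv (A := C.presheaf.stalk y) e.symm]
    exact (point_data hS f hsm y).2
  letI := TopCat.Presheaf.algebra_section_stalk C.presheaf (⟨x, hxU⟩ : U)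
  haveI := hU.isLocalization_stalk ⟨x, hxU⟩
  haveI := (hU.primeIdealOf ⟨x, hxU⟩).isPrime
  let ex := (IsLocalization.algEquiv (hU.primeIdealOf ⟨x, hxU⟩).asIdeal.primeCompl
    (Localization.AtPrime (hU.primeIdealOf ⟨x, hxU⟩).asIdeal) (C.presheaf.stalk x)).toRingEquiv
  obtain ⟨hd, hc⟩ := SerreLib.normal_of_R1_S2 h1 h2 (hU.primeIdealOf ⟨x, hxU⟩).asIdeal
  exact ⟨MulEquiv.isDomain _ ex.symm.toMulEquiv, IsIntegrallyClosed.of_equiv ex⟩

end Groth.Agent.CurvNormLib
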